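import Groth.Agent.Lib.FibDimLocConst4
import Groth.Agent.Lib.EquidimStalk4
import Groth.Agent.Lib.VarDim.Irred
import Groth.Agent.S4798
import Groth.Agent.Lib.LimH13.ArrowModel

/-!
Local constancy of the dimensions of the components of the fibres of an open morphism (EGA IV 14.2.6).
-/

set_option autoImplicit false
set_option linter.style.haveILetI false
set_option backward.isDefEq.respectTransparency.types false

universe u

open CategoryTheory AlgebraicGeometry Topology Groth.Agent.FibDim14 Groth.Agent.EquidimStalk4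

namespace Groth.Agent.CompDims5

variable {X Y : Scheme.{u}} (f : X ⟶ Y) [LocallyOfFiniteType f]

/-- The dimensions of the components of a fibre. -/
def compDims (z : Y) : Set (WithBot ℕ∞) := {d | ∃ ζ, f ζ = z ∧ IsMaxFib f ζ ∧ d = (rd f ζ : WithBot ℕ∞)}

theorem image_components_homeo {α β : Type u} [TopologicalSpace α] [TopologicalSpace β] (e : α ≃ₜ β) :
    (fun Z : Set β => topologicalKrullDim ↥Z) '' irreducibleComponents β =
      (fun Z : Set α => topologicalKrullDim ↥Z) '' irreducibleComponents α := by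
  have key : ∀ {α β : Type u} [TopologicalSpace α] [TopologicalSpace β] (e : α ≃ₜ β) (Z : Set α),
      Z ∈ irreducibleComponents α → e '' Z ∈ irreducibleComponents β ∧
        topologicalKrullDim ↥(e '' Z) = topologicalKrullDim ↥Z := by
    intro α β _ _ e Z hZ
    refine ⟨⟨hZ.1.image e e.continuous.continuousOn, fun W hW hle => ?_⟩, ?_⟩
    · have h1 := hZ.2 (hW.image e.symm e.symm.continuous.continuousOn)
        (fun z hz => ⟨e z, hle ⟨z, hz, rfl⟩, e.symm_apply_apply z⟩)
      exact fun w hw => ⟨e.symm w, h1 ⟨w, hw, rfl⟩, e.apply_symm_apply w⟩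
    · exact (IsHomeomorph.topologicalKrullDim_eq _ (e.image Z).isHomeomorph).symm
  refine subset_antisymm ?_ ?_
  · rintro _ ⟨Z, hZ, rfl⟩
    exact ⟨e.symm '' Z, key e.symm Z hZ⟩
  · rintro _ ⟨Z, hZ, rfl⟩
    exact ⟨e '' Z, key e Z hZ⟩

theorem image_components_fiber (z : Y) :
    (fun Z : Set ↥(f.fiber z) => topologicalKrullDim ↥Z) '' irreducibleComponents ↥(f.fiber z) = compDims f z := by
  have hfι : ∀ w : f.fiber z, f (f.fiberι z w) = z := fun w => (f.range_fiberι z).le ⟨w, rfl⟩
  have hdim : ∀ w : f.fiber z,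
      topologicalKrullDim ↥(closure ({w} : Set ↥(f.fiber z))) = (rd f (f.fiberι z w) : WithBot ℕ∞) := fun w => by
    have himg : f.fiberι z '' closure {w} = closure {f.fiberι z w} ∩ f.base ⁻¹' {z} := by
      rw [(f.fiberι z).isEmbedding.closure_eq_preimage_closure_image, Set.image_singleton,
        Set.image_preimage_eq_inter_range, f.range_fiberι]
    rw [IsHomeomorph.topologicalKrullDim_eq _ ((f.fiberι z).isEmbedding.homeomorphImage (closure {w})).isHomeomorph,
      himg]
    have h := (FibSub4.closure_fibre f (f.fiberι z w)).1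
    rwa [hfι] at h
  refine subset_antisymm ?_ ?_
  · rintro _ ⟨Z, hZ, rfl⟩
    obtain ⟨w, rfl, hw⟩ := VarDim.exists_generic_of_mem_irreducibleComponents hZ
    exact ⟨_, hfι w, (isMaxFib_fiberι f z w).2 hw, hdim w⟩
  · rintro _ ⟨ζ, hζ, hmax, rfl⟩
    obtain ⟨w, rfl⟩ : ζ ∈ Set.range (f.fiberι z) := (f.range_fiberι z).ge hζ
    exact ⟨closure {w}, (VarDim.maximal_iff_mem_irreducibleComponents (X := f.fiber z) w).1
      ((isMaxFib_fiberι f z w).1 hmax), hdim w⟩

theorem isLocallyConstructible_compDims [IsLocallyNoetherian Y] [QuasiCompact f] (Φ : Set (WithBot ℕ∞)) :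
    IsLocallyConstructible {s : Y | compDims f s = Φ} := by
  haveI := LimH13.locallyOfFinitePresentation_of_noetherian f
  haveI : IsLocallyNoetherian X := LocallyOfFiniteType.isLocallyNoetherian f
  haveI : QuasiSeparated f := inferInstance
  have h := S4798.result f Set.univ
    (fun x => ⟨Set.univ, Filter.univ_mem, isOpen_univ, by simp⟩)
    (fun s => by rw [Set.preimage_univ]; exact isOpen_univ.isLocallyClosed) Φ
  refine (congrArg IsLocallyConstructible (Set.ext fun s => ?_)).mp h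
  show (fun T : Set ↥(Set.univ ∩ ⇑f ⁻¹' {s}) => topologicalKrullDim ↥T) ''
    irreducibleComponents ↥(Set.univ ∩ ⇑f ⁻¹' {s}) = Φ ↔ compDims f s = Φ
  rw [← image_components_fiber, image_components_homeo ((f.fiberHomeo s).trans
    (Homeomorph.setCongr (Set.univ_inter (⇑f ⁻¹' {s})).symm))]

theorem isOpenAt_of_isOpenMap (hf : IsOpenMap f.base) (z : X) : EGA43.IsOpenAt f.base z := fun U hU => by
  obtain ⟨O, hOU, hO, hzO⟩ := mem_nhds_iff.1 hU
  exact Filter.mem_of_superset ((hf O hO).mem_nhds ⟨z, hzO, rfl⟩) (Set.image_mono hOU)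

/-- A component of a fibre lifts to a component over a maximal generization of the same dimension. -/
theorem exists_component [IsLocallyNoetherian Y] (hf : IsOpenMap f.base) {ζ : X} (hmax : IsMaxFib f ζ) {η : Y}
    (hη : η ⤳ f ζ) (hηmax : ∀ a, a ⤳ η → a = η) :
    ∃ t, t ⤳ ζ ∧ (∀ a, a ⤳ t → a = t) ∧ f t = η ∧ rd f t = rd f ζ := by
  haveI : IsLocallyNoetherian X := LocallyOfFiniteType.isLocallyNoetherian f
  obtain ⟨t, htz, htmax, hft, hrd⟩ := Unibr4.exists_component_of_liftsAt f
    (EGA43Top.liftsAt_of_isOpenAt (isOpenAt_of_isOpenMap f hf ζ)) hη hηmax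
  obtain ⟨w, hw⟩ := exists_preimage htz
  obtain ⟨b1, b2, -⟩ := cl_bounds f w
  rw [hw, FibGen4.fibreDimAt_eq_rd_of_isMaxFib f hmax] at b2
  have h1 : rd f t ≤ rd f ζ := by exact_mod_cast b1.trans b2
  exact ⟨t, htz, htmax, hft, le_antisymm h1 hrd⟩

theorem exists_nhds [IsLocallyNoetherian Y] [QuasiCompact f] (hf : IsOpenMap f.base) (y : Y)
    (h : ∀ η : Y, η ⤳ y → (∀ a, a ⤳ η → a = η) → compDims f y = compDims f η) :
    {z : Y | compDims f z = compDims f y} ∈ 𝓝 y := by
  haveI : IsLocallyNoetherian X := LocallyOfFiniteType.isLocallyNoetherian f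
  refine EGA43Top.mem_nhds_of_generizations (isLocallyConstructible_compDims f _) fun z hz => ?_
  obtain ⟨η, hη, hηmax⟩ := EquidimAt4.exists_max_specializes z
  refine subset_antisymm ?_ ?_
  · rintro _ ⟨ζ, hζ, hmax, rfl⟩
    obtain ⟨t, -, htmax, hft, hrd⟩ := exists_component f hf hmax (η := η) (hζ.symm ▸ hη) hηmax
    rw [h η (hη.trans hz) hηmax]
    exact ⟨t, hft, fun a ha _ => htmax a ha, by rw [hrd]⟩
  · rintro _ ⟨ζ, hζ, hmax, rfl⟩
    obtain ⟨c, hcζ, hfc, hrdc⟩ := Unibr4.exists_lift_rd_ge f ζ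
      (EGA43Top.liftsAt_of_isOpenAt (isOpenAt_of_isOpenMap f hf ζ)) (r := z) (hζ.symm ▸ hz)
    obtain ⟨c', hc', hfc', hc'max, hd⟩ := FibGen4.exists_isMaxFib f c
    have h1 : rd f c ≤ rd f c' := by
      have h2 := rd_le_fibreDimAt f (specializes_refl c) rfl
      rw [← hd, FibGen4.fibreDimAt_eq_rd_of_isMaxFib f hc'max] at h2
      exact_mod_cast h2
    have hfc'z : f c' = z := hfc'.trans hfc
    obtain ⟨t, htc, htmax, hft, hrdt⟩ := exists_component f hf hc'max (η := η) (hfc'z.symm ▸ hη) hηmax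
    obtain ⟨w, hw⟩ := exists_preimage (htc.trans (hc'.trans hcζ))
    obtain ⟨b1, b2, -⟩ := cl_bounds f w
    rw [hw, FibGen4.fibreDimAt_eq_rd_of_isMaxFib f hmax] at b2
    have h3 : rd f t ≤ rd f ζ := by exact_mod_cast b1.trans b2
    exact ⟨c', hfc'z, hc'max, by rw [show rd f c' = rd f ζ by omega]⟩

end Groth.Agent.CompDims5
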